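import Cfsg.Agent.Lib.Helper28.Fi24Ord.C28431.ChkDefs

set_option autoImplicit false
set_option linter.unusedVariables false
set_option Elab.async false

namespace Cfsg.Agent.Lib.Helper28.Fi24Ord.C28431

open Cfsg.Agent.Lib.Helper28.Fi24Sub.R9 (Gen)
open Cfsg.Agent.Lib.Helper28.TC

noncomputable section

theorem closedP_blk0 : allRange (guard nn closedP) 8 (0 * 2 ^ 8) = true := by decide +kernel
theorem closedP_blk1 : allRange (guard nn closedP) 8 (1 * 2 ^ 8) = true := by decide +kernel
theorem closedP_blk2 : allRange (guard nn closedP) 8 (2 * 2 ^ 8) = true := by decide +kernel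
theorem closedP_blk3 : allRange (guard nn closedP) 8 (3 * 2 ^ 8) = true := by decide +kernel
theorem closedP_blk4 : allRange (guard nn closedP) 8 (4 * 2 ^ 8) = true := by decide +kernel
theorem closedP_blk5 : allRange (guard nn closedP) 8 (5 * 2 ^ 8) = true := by decide +kernel
theorem closedP_blk6 : allRange (guard nn closedP) 8 (6 * 2 ^ 8) = true := by decide +kernel
theorem closedP_blk7 : allRange (guard nn closedP) 8 (7 * 2 ^ 8) = true := by decide +kernel
theorem closedP_blk8 : allRange (guard nn closedP) 8 (8 * 2 ^ 8) = true := by decide +kernel
theorem closedP_blk9 : allRange (guard nn closedP) 8 (9 * 2 ^ 8) = true := by decide +kernel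
theorem closedP_blk10 : allRange (guard nn closedP) 8 (10 * 2 ^ 8) = true := by decide +kernel
theorem closedP_blk11 : allRange (guard nn closedP) 8 (11 * 2 ^ 8) = true := by decide +kernel
theorem closedP_blk12 : allRange (guard nn closedP) 8 (12 * 2 ^ 8) = true := by decide +kernel
theorem closedP_blk13 : allRange (guard nn closedP) 8 (13 * 2 ^ 8) = true := by decide +kernel
theorem closedP_blk14 : allRange (guard nn closedP) 8 (14 * 2 ^ 8) = true := by decide +kernel
theorem closedP_blk15 : allRange (guard nn closedP) 8 (15 * 2 ^ 8) = true := by decide +kernel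
theorem closedP_blk16 : allRange (guard nn closedP) 8 (16 * 2 ^ 8) = true := by decide +kernel
theorem closedP_blk17 : allRange (guard nn closedP) 8 (17 * 2 ^ 8) = true := by decide +kernel
theorem closedP_blk18 : allRange (guard nn closedP) 8 (18 * 2 ^ 8) = true := by decide +kernel
theorem closedP_blk19 : allRange (guard nn closedP) 8 (19 * 2 ^ 8) = true := by decide +kernel
theorem closedP_blk20 : allRange (guard nn closedP) 8 (20 * 2 ^ 8) = true := by decide +kernel
theorem closedP_blk21 : allRange (guard nn closedP) 8 (21 * 2 ^ 8) = true := by decide +kernel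
theorem closedP_blk22 : allRange (guard nn closedP) 8 (22 * 2 ^ 8) = true := by decide +kernel
theorem closedP_blk23 : allRange (guard nn closedP) 8 (23 * 2 ^ 8) = true := by decide +kernel
theorem closedP_blk24 : allRange (guard nn closedP) 8 (24 * 2 ^ 8) = true := by decide +kernel
theorem closedP_blk25 : allRange (guard nn closedP) 8 (25 * 2 ^ 8) = true := by decide +kernel
theorem closedP_blk26 : allRange (guard nn closedP) 8 (26 * 2 ^ 8) = true := by decide +kernel
theorem closedP_blk27 : allRange (guard nn closedP) 8 (27 * 2 ^ 8) = true := by decide +kernel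
theorem closedP_blk28 : allRange (guard nn closedP) 8 (28 * 2 ^ 8) = true := by decide +kernel
theorem closedP_blk29 : allRange (guard nn closedP) 8 (29 * 2 ^ 8) = true := by decide +kernel
theorem closedP_blk30 : allRange (guard nn closedP) 8 (30 * 2 ^ 8) = true := by decide +kernel
theorem closedP_blk31 : allRange (guard nn closedP) 8 (31 * 2 ^ 8) = true := by decide +kernel
theorem closedP_blk32 : allRange (guard nn closedP) 8 (32 * 2 ^ 8) = true := by decide +kernel
theorem closedP_blk33 : allRange (guard nn closedP) 8 (33 * 2 ^ 8) = true := by decide +kernel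
theorem closedP_blk34 : allRange (guard nn closedP) 8 (34 * 2 ^ 8) = true := by decide +kernel
theorem closedP_blk35 : allRange (guard nn closedP) 8 (35 * 2 ^ 8) = true := by decide +kernel
theorem closedP_blk36 : allRange (guard nn closedP) 8 (36 * 2 ^ 8) = true := by decide +kernel
theorem closedP_blk37 : allRange (guard nn closedP) 8 (37 * 2 ^ 8) = true := by decide +kernel
theorem closedP_blk38 : allRange (guard nn closedP) 8 (38 * 2 ^ 8) = true := by decide +kernel
theorem closedP_blk39 : allRange (guard nn closedP) 8 (39 * 2 ^ 8) = true := by decide +kernel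
theorem closedP_blk40 : allRange (guard nn closedP) 8 (40 * 2 ^ 8) = true := by decide +kernel
theorem closedP_blk41 : allRange (guard nn closedP) 8 (41 * 2 ^ 8) = true := by decide +kernel
theorem closedP_blk42 : allRange (guard nn closedP) 8 (42 * 2 ^ 8) = true := by decide +kernel
theorem closedP_blk43 : allRange (guard nn closedP) 8 (43 * 2 ^ 8) = true := by decide +kernel
theorem closedP_blk44 : allRange (guard nn closedP) 8 (44 * 2 ^ 8) = true := by decide +kernel
theorem closedP_blk45 : allRange (guard nn closedP) 8 (45 * 2 ^ 8) = true := by decide +kernel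
theorem closedP_blk46 : allRange (guard nn closedP) 8 (46 * 2 ^ 8) = true := by decide +kernel
theorem closedP_blk47 : allRange (guard nn closedP) 8 (47 * 2 ^ 8) = true := by decide +kernel
theorem closedP_blk48 : allRange (guard nn closedP) 8 (48 * 2 ^ 8) = true := by decide +kernel
theorem closedP_blk49 : allRange (guard nn closedP) 8 (49 * 2 ^ 8) = true := by decide +kernel
theorem closedP_blk50 : allRange (guard nn closedP) 8 (50 * 2 ^ 8) = true := by decide +kernel
theorem closedP_blk51 : allRange (guard nn closedP) 8 (51 * 2 ^ 8) = true := by decide +kernel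
theorem closedP_blk52 : allRange (guard nn closedP) 8 (52 * 2 ^ 8) = true := by decide +kernel
theorem closedP_blk53 : allRange (guard nn closedP) 8 (53 * 2 ^ 8) = true := by decide +kernel
theorem closedP_blk54 : allRange (guard nn closedP) 8 (54 * 2 ^ 8) = true := by decide +kernel
theorem closedP_blk55 : allRange (guard nn closedP) 8 (55 * 2 ^ 8) = true := by decide +kernel
theorem closedP_blk56 : allRange (guard nn closedP) 8 (56 * 2 ^ 8) = true := by decide +kernel
theorem closedP_blk57 : allRange (guard nn closedP) 8 (57 * 2 ^ 8) = true := by decide +kernel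
theorem closedP_blk58 : allRange (guard nn closedP) 8 (58 * 2 ^ 8) = true := by decide +kernel
theorem closedP_blk59 : allRange (guard nn closedP) 8 (59 * 2 ^ 8) = true := by decide +kernel
theorem closedP_blk60 : allRange (guard nn closedP) 8 (60 * 2 ^ 8) = true := by decide +kernel
theorem closedP_blk61 : allRange (guard nn closedP) 8 (61 * 2 ^ 8) = true := by decide +kernel
theorem closedP_blk62 : allRange (guard nn closedP) 8 (62 * 2 ^ 8) = true := by decide +kernel
theorem closedP_blk63 : allRange (guard nn closedP) 8 (63 * 2 ^ 8) = true := by decide +kernel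
theorem closedP_f0 : ∀ k, 0 ≤ k → k < 64 → allRange (guard nn closedP) 8 (k * 2 ^ 8) = true := by
  intro k h1 h2
  interval_cases k
  · exact closedP_blk0
  · exact closedP_blk1
  · exact closedP_blk2
  · exact closedP_blk3
  · exact closedP_blk4
  · exact closedP_blk5
  · exact closedP_blk6
  · exact closedP_blk7
  · exact closedP_blk8
  · exact closedP_blk9
  · exact closedP_blk10
  · exact closedP_blk11
  · exact closedP_blk12
  · exact closedP_blk13
  · exact closedP_blk14
  · exact closedP_blk15
  · exact closedP_blk16
  · exact closedP_blk17
  · exact closedP_blk18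
  · exact closedP_blk19
  · exact closedP_blk20
  · exact closedP_blk21
  · exact closedP_blk22
  · exact closedP_blk23
  · exact closedP_blk24
  · exact closedP_blk25
  · exact closedP_blk26
  · exact closedP_blk27
  · exact closedP_blk28
  · exact closedP_blk29
  · exact closedP_blk30
  · exact closedP_blk31
  · exact closedP_blk32
  · exact closedP_blk33
  · exact closedP_blk34
  · exact closedP_blk35
  · exact closedP_blk36
  · exact closedP_blk37
  · exact closedP_blk38
  · exact closedP_blk39
  · exact closedP_blk40
  · exact closedP_blk41
  · exact closedP_blk42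
  · exact closedP_blk43
  · exact closedP_blk44
  · exact closedP_blk45
  · exact closedP_blk46
  · exact closedP_blk47
  · exact closedP_blk48
  · exact closedP_blk49
  · exact closedP_blk50
  · exact closedP_blk51
  · exact closedP_blk52
  · exact closedP_blk53
  · exact closedP_blk54
  · exact closedP_blk55
  · exact closedP_blk56
  · exact closedP_blk57
  · exact closedP_blk58
  · exact closedP_blk59
  · exact closedP_blk60
  · exact closedP_blk61
  · exact closedP_blk62
  · exact closedP_blk63

end

end Cfsg.Agent.Lib.Helper28.Fi24Ord.C28431
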