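import Cfsg.Agent.Lib.Helper28.Fi24Ord.C28431.ChkDefs

set_option autoImplicit false
set_option linter.unusedVariables false
set_option Elab.async false

namespace Cfsg.Agent.Lib.Helper28.Fi24Ord.C28431

open Cfsg.Agent.Lib.Helper28.Fi24Sub.R9 (Gen)
open Cfsg.Agent.Lib.Helper28.TC

noncomputable section

theorem factP_blk480 : allRange factP 6 (480 * 2 ^ 6) = true := by decide +kernel
theorem factP_blk481 : allRange factP 6 (481 * 2 ^ 6) = true := by decide +kernel
theorem factP_blk482 : allRange factP 6 (482 * 2 ^ 6) = true := by decide +kernel
theorem factP_blk483 : allRange factP 6 (483 * 2 ^ 6) = true := by decide +kernel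
theorem factP_blk484 : allRange factP 6 (484 * 2 ^ 6) = true := by decide +kernel
theorem factP_blk485 : allRange factP 6 (485 * 2 ^ 6) = true := by decide +kernel
theorem factP_blk486 : allRange factP 6 (486 * 2 ^ 6) = true := by decide +kernel
theorem factP_blk487 : allRange factP 6 (487 * 2 ^ 6) = true := by decide +kernel
theorem factP_blk488 : allRange factP 6 (488 * 2 ^ 6) = true := by decide +kernel
theorem factP_blk489 : allRange factP 6 (489 * 2 ^ 6) = true := by decide +kernel
theorem factP_blk490 : allRange factP 6 (490 * 2 ^ 6) = true := by decide +kernel
theorem factP_blk491 : allRange factP 6 (491 * 2 ^ 6) = true := by decide +kernel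
theorem factP_blk492 : allRange factP 6 (492 * 2 ^ 6) = true := by decide +kernel
theorem factP_blk493 : allRange factP 6 (493 * 2 ^ 6) = true := by decide +kernel
theorem factP_blk494 : allRange factP 6 (494 * 2 ^ 6) = true := by decide +kernel
theorem factP_blk495 : allRange factP 6 (495 * 2 ^ 6) = true := by decide +kernel
theorem factP_blk496 : allRange factP 6 (496 * 2 ^ 6) = true := by decide +kernel
theorem factP_blk497 : allRange factP 6 (497 * 2 ^ 6) = true := by decide +kernel
theorem factP_blk498 : allRange factP 6 (498 * 2 ^ 6) = true := by decide +kernel
theorem factP_blk499 : allRange factP 6 (499 * 2 ^ 6) = true := by decide +kernel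
theorem factP_blk500 : allRange factP 6 (500 * 2 ^ 6) = true := by decide +kernel
theorem factP_blk501 : allRange factP 6 (501 * 2 ^ 6) = true := by decide +kernel
theorem factP_blk502 : allRange factP 6 (502 * 2 ^ 6) = true := by decide +kernel
theorem factP_blk503 : allRange factP 6 (503 * 2 ^ 6) = true := by decide +kernel
theorem factP_blk504 : allRange factP 6 (504 * 2 ^ 6) = true := by decide +kernel
theorem factP_blk505 : allRange factP 6 (505 * 2 ^ 6) = true := by decide +kernel
theorem factP_blk506 : allRange factP 6 (506 * 2 ^ 6) = true := by decide +kernel
theorem factP_blk507 : allRange factP 6 (507 * 2 ^ 6) = true := by decide +kernel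
theorem factP_blk508 : allRange factP 6 (508 * 2 ^ 6) = true := by decide +kernel
theorem factP_blk509 : allRange factP 6 (509 * 2 ^ 6) = true := by decide +kernel
theorem factP_blk510 : allRange factP 6 (510 * 2 ^ 6) = true := by decide +kernel
theorem factP_blk511 : allRange factP 6 (511 * 2 ^ 6) = true := by decide +kernel
theorem factP_blk512 : allRange factP 6 (512 * 2 ^ 6) = true := by decide +kernel
theorem factP_blk513 : allRange factP 6 (513 * 2 ^ 6) = true := by decide +kernel
theorem factP_blk514 : allRange factP 6 (514 * 2 ^ 6) = true := by decide +kernel
theorem factP_blk515 : allRange factP 6 (515 * 2 ^ 6) = true := by decide +kernel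
theorem factP_blk516 : allRange factP 6 (516 * 2 ^ 6) = true := by decide +kernel
theorem factP_blk517 : allRange factP 6 (517 * 2 ^ 6) = true := by decide +kernel
theorem factP_blk518 : allRange factP 6 (518 * 2 ^ 6) = true := by decide +kernel
theorem factP_blk519 : allRange factP 6 (519 * 2 ^ 6) = true := by decide +kernel
theorem factP_blk520 : allRange factP 6 (520 * 2 ^ 6) = true := by decide +kernel
theorem factP_blk521 : allRange factP 6 (521 * 2 ^ 6) = true := by decide +kernel
theorem factP_blk522 : allRange factP 6 (522 * 2 ^ 6) = true := by decide +kernel
theorem factP_blk523 : allRange factP 6 (523 * 2 ^ 6) = true := by decide +kernel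
theorem factP_blk524 : allRange factP 6 (524 * 2 ^ 6) = true := by decide +kernel
theorem factP_blk525 : allRange factP 6 (525 * 2 ^ 6) = true := by decide +kernel
theorem factP_blk526 : allRange factP 6 (526 * 2 ^ 6) = true := by decide +kernel
theorem factP_blk527 : allRange factP 6 (527 * 2 ^ 6) = true := by decide +kernel
theorem factP_blk528 : allRange factP 6 (528 * 2 ^ 6) = true := by decide +kernel
theorem factP_blk529 : allRange factP 6 (529 * 2 ^ 6) = true := by decide +kernel
theorem factP_blk530 : allRange factP 6 (530 * 2 ^ 6) = true := by decide +kernel
theorem factP_blk531 : allRange factP 6 (531 * 2 ^ 6) = true := by decide +kernel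
theorem factP_blk532 : allRange factP 6 (532 * 2 ^ 6) = true := by decide +kernel
theorem factP_blk533 : allRange factP 6 (533 * 2 ^ 6) = true := by decide +kernel
theorem factP_blk534 : allRange factP 6 (534 * 2 ^ 6) = true := by decide +kernel
theorem factP_blk535 : allRange factP 6 (535 * 2 ^ 6) = true := by decide +kernel
theorem factP_blk536 : allRange factP 6 (536 * 2 ^ 6) = true := by decide +kernel
theorem factP_blk537 : allRange factP 6 (537 * 2 ^ 6) = true := by decide +kernel
theorem factP_blk538 : allRange factP 6 (538 * 2 ^ 6) = true := by decide +kernel
theorem factP_blk539 : allRange factP 6 (539 * 2 ^ 6) = true := by decide +kernel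
theorem factP_blk540 : allRange factP 6 (540 * 2 ^ 6) = true := by decide +kernel
theorem factP_blk541 : allRange factP 6 (541 * 2 ^ 6) = true := by decide +kernel
theorem factP_blk542 : allRange factP 6 (542 * 2 ^ 6) = true := by decide +kernel
theorem factP_blk543 : allRange factP 6 (543 * 2 ^ 6) = true := by decide +kernel
theorem factP_blk544 : allRange factP 6 (544 * 2 ^ 6) = true := by decide +kernel
theorem factP_blk545 : allRange factP 6 (545 * 2 ^ 6) = true := by decide +kernel
theorem factP_blk546 : allRange factP 6 (546 * 2 ^ 6) = true := by decide +kernel
theorem factP_blk547 : allRange factP 6 (547 * 2 ^ 6) = true := by decide +kernel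
theorem factP_blk548 : allRange factP 6 (548 * 2 ^ 6) = true := by decide +kernel
theorem factP_blk549 : allRange factP 6 (549 * 2 ^ 6) = true := by decide +kernel
theorem factP_blk550 : allRange factP 6 (550 * 2 ^ 6) = true := by decide +kernel
theorem factP_blk551 : allRange factP 6 (551 * 2 ^ 6) = true := by decide +kernel
theorem factP_blk552 : allRange factP 6 (552 * 2 ^ 6) = true := by decide +kernel
theorem factP_blk553 : allRange factP 6 (553 * 2 ^ 6) = true := by decide +kernel
theorem factP_blk554 : allRange factP 6 (554 * 2 ^ 6) = true := by decide +kernel
theorem factP_blk555 : allRange factP 6 (555 * 2 ^ 6) = true := by decide +kernel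
theorem factP_blk556 : allRange factP 6 (556 * 2 ^ 6) = true := by decide +kernel
theorem factP_blk557 : allRange factP 6 (557 * 2 ^ 6) = true := by decide +kernel
theorem factP_blk558 : allRange factP 6 (558 * 2 ^ 6) = true := by decide +kernel
theorem factP_blk559 : allRange factP 6 (559 * 2 ^ 6) = true := by decide +kernel
theorem factP_blk560 : allRange factP 6 (560 * 2 ^ 6) = true := by decide +kernel
theorem factP_blk561 : allRange factP 6 (561 * 2 ^ 6) = true := by decide +kernel
theorem factP_blk562 : allRange factP 6 (562 * 2 ^ 6) = true := by decide +kernel
theorem factP_f5 : ∀ k, 480 ≤ k → k < 563 → allRange factP 6 (k * 2 ^ 6) = true := by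
  intro k h1 h2
  interval_cases k
  · exact factP_blk480
  · exact factP_blk481
  · exact factP_blk482
  · exact factP_blk483
  · exact factP_blk484
  · exact factP_blk485
  · exact factP_blk486
  · exact factP_blk487
  · exact factP_blk488
  · exact factP_blk489
  · exact factP_blk490
  · exact factP_blk491
  · exact factP_blk492
  · exact factP_blk493
  · exact factP_blk494
  · exact factP_blk495
  · exact factP_blk496
  · exact factP_blk497
  · exact factP_blk498
  · exact factP_blk499
  · exact factP_blk500
  · exact factP_blk501
  · exact factP_blk502
  · exact factP_blk503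
  · exact factP_blk504
  · exact factP_blk505
  · exact factP_blk506
  · exact factP_blk507
  · exact factP_blk508
  · exact factP_blk509
  · exact factP_blk510
  · exact factP_blk511
  · exact factP_blk512
  · exact factP_blk513
  · exact factP_blk514
  · exact factP_blk515
  · exact factP_blk516
  · exact factP_blk517
  · exact factP_blk518
  · exact factP_blk519
  · exact factP_blk520
  · exact factP_blk521
  · exact factP_blk522
  · exact factP_blk523
  · exact factP_blk524
  · exact factP_blk525
  · exact factP_blk526
  · exact factP_blk527
  · exact factP_blk528
  · exact factP_blk529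
  · exact factP_blk530
  · exact factP_blk531
  · exact factP_blk532
  · exact factP_blk533
  · exact factP_blk534
  · exact factP_blk535
  · exact factP_blk536
  · exact factP_blk537
  · exact factP_blk538
  · exact factP_blk539
  · exact factP_blk540
  · exact factP_blk541
  · exact factP_blk542
  · exact factP_blk543
  · exact factP_blk544
  · exact factP_blk545
  · exact factP_blk546
  · exact factP_blk547
  · exact factP_blk548
  · exact factP_blk549
  · exact factP_blk550
  · exact factP_blk551
  · exact factP_blk552
  · exact factP_blk553
  · exact factP_blk554
  · exact factP_blk555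
  · exact factP_blk556
  · exact factP_blk557
  · exact factP_blk558
  · exact factP_blk559
  · exact factP_blk560
  · exact factP_blk561
  · exact factP_blk562

end

end Cfsg.Agent.Lib.Helper28.Fi24Ord.C28431
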