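import Cfsg.Agent.Lib.Helper28.Fi24Ord.C28431.ChkDefs

set_option autoImplicit false
set_option linter.unusedVariables false
set_option Elab.async false

namespace Cfsg.Agent.Lib.Helper28.Fi24Ord.C28431

open Cfsg.Agent.Lib.Helper28.Fi24Sub.R9 (Gen)
open Cfsg.Agent.Lib.Helper28.TC

noncomputable section

theorem permP_blk768 : allRange (guard nn permP) 5 (768 * 2 ^ 5) = true := by decide +kernel
theorem permP_blk769 : allRange (guard nn permP) 5 (769 * 2 ^ 5) = true := by decide +kernel
theorem permP_blk770 : allRange (guard nn permP) 5 (770 * 2 ^ 5) = true := by decide +kernel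
theorem permP_blk771 : allRange (guard nn permP) 5 (771 * 2 ^ 5) = true := by decide +kernel
theorem permP_blk772 : allRange (guard nn permP) 5 (772 * 2 ^ 5) = true := by decide +kernel
theorem permP_blk773 : allRange (guard nn permP) 5 (773 * 2 ^ 5) = true := by decide +kernel
theorem permP_blk774 : allRange (guard nn permP) 5 (774 * 2 ^ 5) = true := by decide +kernel
theorem permP_blk775 : allRange (guard nn permP) 5 (775 * 2 ^ 5) = true := by decide +kernel
theorem permP_blk776 : allRange (guard nn permP) 5 (776 * 2 ^ 5) = true := by decide +kernel
theorem permP_blk777 : allRange (guard nn permP) 5 (777 * 2 ^ 5) = true := by decide +kernel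
theorem permP_blk778 : allRange (guard nn permP) 5 (778 * 2 ^ 5) = true := by decide +kernel
theorem permP_blk779 : allRange (guard nn permP) 5 (779 * 2 ^ 5) = true := by decide +kernel
theorem permP_blk780 : allRange (guard nn permP) 5 (780 * 2 ^ 5) = true := by decide +kernel
theorem permP_blk781 : allRange (guard nn permP) 5 (781 * 2 ^ 5) = true := by decide +kernel
theorem permP_blk782 : allRange (guard nn permP) 5 (782 * 2 ^ 5) = true := by decide +kernel
theorem permP_blk783 : allRange (guard nn permP) 5 (783 * 2 ^ 5) = true := by decide +kernel
theorem permP_blk784 : allRange (guard nn permP) 5 (784 * 2 ^ 5) = true := by decide +kernel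
theorem permP_blk785 : allRange (guard nn permP) 5 (785 * 2 ^ 5) = true := by decide +kernel
theorem permP_blk786 : allRange (guard nn permP) 5 (786 * 2 ^ 5) = true := by decide +kernel
theorem permP_blk787 : allRange (guard nn permP) 5 (787 * 2 ^ 5) = true := by decide +kernel
theorem permP_blk788 : allRange (guard nn permP) 5 (788 * 2 ^ 5) = true := by decide +kernel
theorem permP_blk789 : allRange (guard nn permP) 5 (789 * 2 ^ 5) = true := by decide +kernel
theorem permP_blk790 : allRange (guard nn permP) 5 (790 * 2 ^ 5) = true := by decide +kernel
theorem permP_blk791 : allRange (guard nn permP) 5 (791 * 2 ^ 5) = true := by decide +kernel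
theorem permP_blk792 : allRange (guard nn permP) 5 (792 * 2 ^ 5) = true := by decide +kernel
theorem permP_blk793 : allRange (guard nn permP) 5 (793 * 2 ^ 5) = true := by decide +kernel
theorem permP_blk794 : allRange (guard nn permP) 5 (794 * 2 ^ 5) = true := by decide +kernel
theorem permP_blk795 : allRange (guard nn permP) 5 (795 * 2 ^ 5) = true := by decide +kernel
theorem permP_blk796 : allRange (guard nn permP) 5 (796 * 2 ^ 5) = true := by decide +kernel
theorem permP_blk797 : allRange (guard nn permP) 5 (797 * 2 ^ 5) = true := by decide +kernel
theorem permP_blk798 : allRange (guard nn permP) 5 (798 * 2 ^ 5) = true := by decide +kernel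
theorem permP_blk799 : allRange (guard nn permP) 5 (799 * 2 ^ 5) = true := by decide +kernel
theorem permP_blk800 : allRange (guard nn permP) 5 (800 * 2 ^ 5) = true := by decide +kernel
theorem permP_blk801 : allRange (guard nn permP) 5 (801 * 2 ^ 5) = true := by decide +kernel
theorem permP_blk802 : allRange (guard nn permP) 5 (802 * 2 ^ 5) = true := by decide +kernel
theorem permP_blk803 : allRange (guard nn permP) 5 (803 * 2 ^ 5) = true := by decide +kernel
theorem permP_blk804 : allRange (guard nn permP) 5 (804 * 2 ^ 5) = true := by decide +kernel
theorem permP_blk805 : allRange (guard nn permP) 5 (805 * 2 ^ 5) = true := by decide +kernel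
theorem permP_blk806 : allRange (guard nn permP) 5 (806 * 2 ^ 5) = true := by decide +kernel
theorem permP_blk807 : allRange (guard nn permP) 5 (807 * 2 ^ 5) = true := by decide +kernel
theorem permP_blk808 : allRange (guard nn permP) 5 (808 * 2 ^ 5) = true := by decide +kernel
theorem permP_blk809 : allRange (guard nn permP) 5 (809 * 2 ^ 5) = true := by decide +kernel
theorem permP_blk810 : allRange (guard nn permP) 5 (810 * 2 ^ 5) = true := by decide +kernel
theorem permP_blk811 : allRange (guard nn permP) 5 (811 * 2 ^ 5) = true := by decide +kernel
theorem permP_blk812 : allRange (guard nn permP) 5 (812 * 2 ^ 5) = true := by decide +kernel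
theorem permP_blk813 : allRange (guard nn permP) 5 (813 * 2 ^ 5) = true := by decide +kernel
theorem permP_blk814 : allRange (guard nn permP) 5 (814 * 2 ^ 5) = true := by decide +kernel
theorem permP_blk815 : allRange (guard nn permP) 5 (815 * 2 ^ 5) = true := by decide +kernel
theorem permP_f16 : ∀ k, 768 ≤ k → k < 816 → allRange (guard nn permP) 5 (k * 2 ^ 5) = true := by
  intro k h1 h2
  interval_cases k
  · exact permP_blk768
  · exact permP_blk769
  · exact permP_blk770
  · exact permP_blk771
  · exact permP_blk772
  · exact permP_blk773
  · exact permP_blk774
  · exact permP_blk775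
  · exact permP_blk776
  · exact permP_blk777
  · exact permP_blk778
  · exact permP_blk779
  · exact permP_blk780
  · exact permP_blk781
  · exact permP_blk782
  · exact permP_blk783
  · exact permP_blk784
  · exact permP_blk785
  · exact permP_blk786
  · exact permP_blk787
  · exact permP_blk788
  · exact permP_blk789
  · exact permP_blk790
  · exact permP_blk791
  · exact permP_blk792
  · exact permP_blk793
  · exact permP_blk794
  · exact permP_blk795
  · exact permP_blk796
  · exact permP_blk797
  · exact permP_blk798
  · exact permP_blk799
  · exact permP_blk800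
  · exact permP_blk801
  · exact permP_blk802
  · exact permP_blk803
  · exact permP_blk804
  · exact permP_blk805
  · exact permP_blk806
  · exact permP_blk807
  · exact permP_blk808
  · exact permP_blk809
  · exact permP_blk810
  · exact permP_blk811
  · exact permP_blk812
  · exact permP_blk813
  · exact permP_blk814
  · exact permP_blk815

end

end Cfsg.Agent.Lib.Helper28.Fi24Ord.C28431
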