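import Cfsg.Agent.Lib.Helper28.Fi24Ord.C28431.ChkDefs

set_option autoImplicit false
set_option linter.unusedVariables false
set_option Elab.async false

namespace Cfsg.Agent.Lib.Helper28.Fi24Ord.C28431

open Cfsg.Agent.Lib.Helper28.Fi24Sub.R9 (Gen)
open Cfsg.Agent.Lib.Helper28.TC

noncomputable section

theorem permP_blk864 : allRange (guard nn permP) 5 (864 * 2 ^ 5) = true := by decide +kernel
theorem permP_blk865 : allRange (guard nn permP) 5 (865 * 2 ^ 5) = true := by decide +kernel
theorem permP_blk866 : allRange (guard nn permP) 5 (866 * 2 ^ 5) = true := by decide +kernel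
theorem permP_blk867 : allRange (guard nn permP) 5 (867 * 2 ^ 5) = true := by decide +kernel
theorem permP_blk868 : allRange (guard nn permP) 5 (868 * 2 ^ 5) = true := by decide +kernel
theorem permP_blk869 : allRange (guard nn permP) 5 (869 * 2 ^ 5) = true := by decide +kernel
theorem permP_blk870 : allRange (guard nn permP) 5 (870 * 2 ^ 5) = true := by decide +kernel
theorem permP_blk871 : allRange (guard nn permP) 5 (871 * 2 ^ 5) = true := by decide +kernel
theorem permP_blk872 : allRange (guard nn permP) 5 (872 * 2 ^ 5) = true := by decide +kernel
theorem permP_blk873 : allRange (guard nn permP) 5 (873 * 2 ^ 5) = true := by decide +kernel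
theorem permP_blk874 : allRange (guard nn permP) 5 (874 * 2 ^ 5) = true := by decide +kernel
theorem permP_blk875 : allRange (guard nn permP) 5 (875 * 2 ^ 5) = true := by decide +kernel
theorem permP_blk876 : allRange (guard nn permP) 5 (876 * 2 ^ 5) = true := by decide +kernel
theorem permP_blk877 : allRange (guard nn permP) 5 (877 * 2 ^ 5) = true := by decide +kernel
theorem permP_blk878 : allRange (guard nn permP) 5 (878 * 2 ^ 5) = true := by decide +kernel
theorem permP_blk879 : allRange (guard nn permP) 5 (879 * 2 ^ 5) = true := by decide +kernel
theorem permP_blk880 : allRange (guard nn permP) 5 (880 * 2 ^ 5) = true := by decide +kernel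
theorem permP_blk881 : allRange (guard nn permP) 5 (881 * 2 ^ 5) = true := by decide +kernel
theorem permP_blk882 : allRange (guard nn permP) 5 (882 * 2 ^ 5) = true := by decide +kernel
theorem permP_blk883 : allRange (guard nn permP) 5 (883 * 2 ^ 5) = true := by decide +kernel
theorem permP_blk884 : allRange (guard nn permP) 5 (884 * 2 ^ 5) = true := by decide +kernel
theorem permP_blk885 : allRange (guard nn permP) 5 (885 * 2 ^ 5) = true := by decide +kernel
theorem permP_blk886 : allRange (guard nn permP) 5 (886 * 2 ^ 5) = true := by decide +kernel
theorem permP_blk887 : allRange (guard nn permP) 5 (887 * 2 ^ 5) = true := by decide +kernel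
theorem permP_blk888 : allRange (guard nn permP) 5 (888 * 2 ^ 5) = true := by decide +kernel
theorem permP_f18 : ∀ k, 864 ≤ k → k < 889 → allRange (guard nn permP) 5 (k * 2 ^ 5) = true := by
  intro k h1 h2
  interval_cases k
  · exact permP_blk864
  · exact permP_blk865
  · exact permP_blk866
  · exact permP_blk867
  · exact permP_blk868
  · exact permP_blk869
  · exact permP_blk870
  · exact permP_blk871
  · exact permP_blk872
  · exact permP_blk873
  · exact permP_blk874
  · exact permP_blk875
  · exact permP_blk876
  · exact permP_blk877
  · exact permP_blk878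
  · exact permP_blk879
  · exact permP_blk880
  · exact permP_blk881
  · exact permP_blk882
  · exact permP_blk883
  · exact permP_blk884
  · exact permP_blk885
  · exact permP_blk886
  · exact permP_blk887
  · exact permP_blk888

end

end Cfsg.Agent.Lib.Helper28.Fi24Ord.C28431
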