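import Cfsg.Agent.Lib.Helper28.Fi24Ord.C28431.ChkP0
import Cfsg.Agent.Lib.Helper28.Fi24Ord.C28431.ChkP1
import Cfsg.Agent.Lib.Helper28.Fi24Ord.C28431.ChkP2
import Cfsg.Agent.Lib.Helper28.Fi24Ord.C28431.ChkP3
import Cfsg.Agent.Lib.Helper28.Fi24Ord.C28431.ChkP4
import Cfsg.Agent.Lib.Helper28.Fi24Ord.C28431.ChkP5
import Cfsg.Agent.Lib.Helper28.Fi24Ord.C28431.ChkP6
import Cfsg.Agent.Lib.Helper28.Fi24Ord.C28431.ChkP7
import Cfsg.Agent.Lib.Helper28.Fi24Ord.C28431.ChkP8
import Cfsg.Agent.Lib.Helper28.Fi24Ord.C28431.ChkP9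
import Cfsg.Agent.Lib.Helper28.Fi24Ord.C28431.ChkP10
import Cfsg.Agent.Lib.Helper28.Fi24Ord.C28431.ChkP11
import Cfsg.Agent.Lib.Helper28.Fi24Ord.C28431.ChkP12
import Cfsg.Agent.Lib.Helper28.Fi24Ord.C28431.ChkP13
import Cfsg.Agent.Lib.Helper28.Fi24Ord.C28431.ChkP14
import Cfsg.Agent.Lib.Helper28.Fi24Ord.C28431.ChkP15
import Cfsg.Agent.Lib.Helper28.Fi24Ord.C28431.ChkP16
import Cfsg.Agent.Lib.Helper28.Fi24Ord.C28431.ChkP17
import Cfsg.Agent.Lib.Helper28.Fi24Ord.C28431.ChkP18
import Cfsg.Agent.Lib.Helper28.Fi24Ord.C28431.ChkF0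
import Cfsg.Agent.Lib.Helper28.Fi24Ord.C28431.ChkF1
import Cfsg.Agent.Lib.Helper28.Fi24Ord.C28431.ChkF2
import Cfsg.Agent.Lib.Helper28.Fi24Ord.C28431.ChkF3
import Cfsg.Agent.Lib.Helper28.Fi24Ord.C28431.ChkF4
import Cfsg.Agent.Lib.Helper28.Fi24Ord.C28431.ChkF5
import Cfsg.Agent.Lib.Helper28.Fi24Ord.C28431.ChkC0
import Cfsg.Agent.Lib.Helper28.Fi24Ord.C28431.ChkC1

set_option autoImplicit false
set_option linter.unusedVariables false

namespace Cfsg.Agent.Lib.Helper28.Fi24Ord.C28431

open Cfsg.Agent.Lib.Helper28.Fi24Sub.R9 (Gen)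
open Cfsg.Agent.Lib.Helper28.TC

noncomputable section

def NNpad : ℕ := 36032
def wHot : ℕ := 35
theorem permP_allk : ∀ k, k < 889 → allRange (guard nn permP) 5 (k * 2 ^ 5) = true := by
  intro k hk
  by_cases h0 : k < 48
  · exact permP_f0 k (by omega) h0
  by_cases h1 : k < 96
  · exact permP_f1 k (by omega) h1
  by_cases h2 : k < 144
  · exact permP_f2 k (by omega) h2
  by_cases h3 : k < 192
  · exact permP_f3 k (by omega) h3
  by_cases h4 : k < 240
  · exact permP_f4 k (by omega) h4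
  by_cases h5 : k < 288
  · exact permP_f5 k (by omega) h5
  by_cases h6 : k < 336
  · exact permP_f6 k (by omega) h6
  by_cases h7 : k < 384
  · exact permP_f7 k (by omega) h7
  by_cases h8 : k < 432
  · exact permP_f8 k (by omega) h8
  by_cases h9 : k < 480
  · exact permP_f9 k (by omega) h9
  by_cases h10 : k < 528
  · exact permP_f10 k (by omega) h10
  by_cases h11 : k < 576
  · exact permP_f11 k (by omega) h11
  by_cases h12 : k < 624
  · exact permP_f12 k (by omega) h12
  by_cases h13 : k < 672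
  · exact permP_f13 k (by omega) h13
  by_cases h14 : k < 720
  · exact permP_f14 k (by omega) h14
  by_cases h15 : k < 768
  · exact permP_f15 k (by omega) h15
  by_cases h16 : k < 816
  · exact permP_f16 k (by omega) h16
  by_cases h17 : k < 864
  · exact permP_f17 k (by omega) h17
  by_cases h18 : k < 889
  · exact permP_f18 k (by omega) h18
  omega
theorem permP_all : ∀ i, i < nn → permP i = true :=
  all_of_blocks nn permP 5 889 (by decide) permP_allk

theorem factP_allk : ∀ k, k < 563 → allRange factP 6 (k * 2 ^ 6) = true := by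
  intro k hk
  by_cases h0 : k < 96
  · exact factP_f0 k (by omega) h0
  by_cases h1 : k < 192
  · exact factP_f1 k (by omega) h1
  by_cases h2 : k < 288
  · exact factP_f2 k (by omega) h2
  by_cases h3 : k < 384
  · exact factP_f3 k (by omega) h3
  by_cases h4 : k < 480
  · exact factP_f4 k (by omega) h4
  by_cases h5 : k < 563
  · exact factP_f5 k (by omega) h5
  omega
theorem factP_all : ∀ i, i < NNpad → factP i = true :=
  allBlocks_spec factP 6 563 factP_allk

theorem closedP_allk : ∀ k, k < 112 → allRange (guard nn closedP) 8 (k * 2 ^ 8) = true := by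
  intro k hk
  by_cases h0 : k < 64
  · exact closedP_f0 k (by omega) h0
  by_cases h1 : k < 112
  · exact closedP_f1 k (by omega) h1
  omega
theorem closedP_all : ∀ i, i < nn → closedP i = true :=
  all_of_blocks nn closedP 8 112 (by decide) closedP_allk

theorem hotA_lt : hotA < 2 ^ (35 * 36032) := by decide +kernel
theorem hotE0_lt : hotE0 < 2 ^ (35 * 36032) := by decide +kernel
theorem hotE1_lt : hotE1 < 2 ^ (35 * 36032) := by decide +kernel
theorem hotE2_lt : hotE2 < 2 ^ (35 * 36032) := by decide +kernel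
theorem hotE3_lt : hotE3 < 2 ^ (35 * 36032) := by decide +kernel
theorem hotE4_lt : hotE4 < 2 ^ (35 * 36032) := by decide +kernel
theorem hotE5_lt : hotE5 < 2 ^ (35 * 36032) := by decide +kernel
theorem hotE6_lt : hotE6 < 2 ^ (35 * 36032) := by decide +kernel
theorem hotE7_lt : hotE7 < 2 ^ (35 * 36032) := by decide +kernel
theorem hotE8_lt : hotE8 < 2 ^ (35 * 36032) := by decide +kernel
theorem subFix : allList (fun w => Nat.beq (act tf w 0) 0) subWords = true := by decide +kernel

end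

end Cfsg.Agent.Lib.Helper28.Fi24Ord.C28431
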